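import Cfsg.Agent.Lib.InvertedNine.Basic
import Cfsg.Agent.Lib.NineCC.Chars
import Cfsg.Agent.Lib.CharTheory.Linear

set_option autoImplicit false
set_option maxHeartbeats 1000000

/-!
Such a group without normal subgroups of order prime to three has a normal Sylow 3-subgroup.
-/

namespace CfsgLib.InvertedNine

open Cfsg CfsgLib.CharTheory CfsgLib.NineCC
open scoped ComplexConjugate

universe u

variable {Y : Type u} [Group Y] [Finite Y] (D : Data Y)

theorem Data.card_cent {w : Y} (hw : w ∈ (D.W : Subgroup Y)) (good : ∀ g : Y, g * w = w * g → g ∈ (D.W : Subgroup Y)) :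
    Nat.card (Subgroup.centralizer ({w} : Set Y)) = 9 := by
  rw [show Subgroup.centralizer ({w} : Set Y) = (D.W : Subgroup Y) from le_antisymm
    (fun g hg => good g (Subgroup.mem_centralizer_singleton_iff.mp hg))
    fun g hg => Subgroup.mem_centralizer_singleton_iff.mpr (D.ab g hg w hw), D.card]

/-- The integral value. -/
noncomputable def Data.v {w : Y} (hw : w ∈ (D.W : Subgroup Y)) : IrrCharacter Y → ℤ :=
  val (D.exp w hw) (D.real hw)

/-- The columns of two elements which are not conjugate. -/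
theorem Data.cols [Fintype Y] [DecidableEq (IrrCharacter Y)] {a b : Y} (ha : a ∈ (D.W : Subgroup Y))
    (hb : b ∈ (D.W : Subgroup Y)) (ha1 : a ≠ 1) (hb1 : b ≠ 1) (hab : b ≠ a) (hab2 : b ≠ a⁻¹)
    (ga : ∀ g : Y, g * a = a * g → g ∈ (D.W : Subgroup Y)) (gb : ∀ g : Y, g * b = b * g → g ∈ (D.W : Subgroup Y)) :
    Cols (principal Y) deg (D.v ha) (D.v hb) where
  dpos := deg_pos
  d1 := (principal_vals (D.exp a ha) (D.real ha)).2
  x1 := (principal_vals (D.exp a ha) (D.real ha)).1
  y1 := (principal_vals (D.exp b hb) (D.real hb)).1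
  xx := by
    classical
    have e := sum_irr_mul_conj a a
    rw [if_pos (IsConj.refl a), D.card_cent ha ga] at e
    simp only [val_spec (D.exp a ha) (D.real ha), map_intCast] at e
    exact_mod_cast e
  yy := by
    classical
    have e := sum_irr_mul_conj b b
    rw [if_pos (IsConj.refl b), D.card_cent hb gb] at e
    simp only [val_spec (D.exp b hb) (D.real hb), map_intCast] at e
    exact_mod_cast e
  xy := by
    classical
    have e := sum_irr_mul_conj a b
    rw [if_neg (fun hc => (D.fusion ha hb hc).elim hab hab2)] at e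
    simp only [val_spec (D.exp a ha) (D.real ha), val_spec (D.exp b hb) (D.real hb), map_intCast] at e
    exact_mod_cast e
  xd := by
    classical
    have e := sum_irr_apply_mul_degree a
    rw [if_neg ha1] at e
    simp only [val_spec (D.exp a ha) (D.real ha), deg_spec] at e
    exact_mod_cast e
  yd := by
    classical
    have e := sum_irr_apply_mul_degree b
    rw [if_neg hb1] at e
    simp only [val_spec (D.exp b hb) (D.real hb), deg_spec] at e
    exact_mod_cast e
  cong χ := by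
    have e1 := cong_three (D.exp a ha) ha1 (D.real ha) χ
    have e2 := cong_three (D.exp b hb) hb1 (D.real hb) χ
    simp only [Data.v]
    omega

theorem numeric {σ d e f c g : ℤ} (hσ : σ = 1 ∨ σ = -1) (hc : c = 1 ∨ c = -1) (hg : g = 1 ∨ g = -1) (hd : 0 < d)
    (he : 0 < e) (hf : 0 < f) (h1 : 1 + c * e + g * f = 0)
    (h2 : 1 - 3 * (σ : ℚ) / d + (c : ℚ) / e + (g : ℚ) / f = 0) : σ = 1 ∧ d = 2 := by
  have hdq : (0 : ℚ) < d := by exact_mod_cast hd
  have key : ∀ e f : ℤ, 0 < e → f = e + 1 → 1 - 3 * (σ : ℚ) / d + 1 / e - 1 / f = 0 → σ = 1 ∧ d = 2 := by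
    intro e f he hfe h
    subst hfe
    have heq : (0 : ℚ) < e := by exact_mod_cast he
    push_cast at h
    field_simp at h
    have h' : d * (e * (e + 1) + 1) = 3 * σ * (e * (e + 1)) := by
      have : ((d * (e * (e + 1) + 1) : ℤ) : ℚ) = ((3 * σ * (e * (e + 1)) : ℤ) : ℚ) := by push_cast; linarith
      exact_mod_cast this
    have hm : 0 < e * (e + 1) := by positivity
    rcases hσ with rfl | rfl
    · refine ⟨rfl, ?_⟩
      have hd3 : d ≤ 2 := by nlinarith
      interval_cases d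
      · exfalso; nlinarith
      · rfl
    · exfalso; nlinarith
  rcases hc with rfl | rfl <;> rcases hg with rfl | rfl
  · omega
  · exact key e f he (by linarith) (by push_cast at h2 ⊢; linear_combination h2)
  · exact key f e hf (by linarith) (by push_cast at h2 ⊢; linear_combination h2)
  · omega

/-- An irreducible character of degree two separating `x` and `y`. -/
theorem Data.exists_char : ∃ χ : IrrCharacter Y,
    (χ : Y → ℂ) D.x = (χ : Y → ℂ) 1 ∧ (χ : Y → ℂ) D.y ≠ (χ : Y → ℂ) 1 := by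
  classical
  haveI := Fintype.ofFinite Y
  have hz := mul_mem D.hx D.hy
  have hx2 : D.x * D.x = D.x⁻¹ :=
    (inv_eq_of_mul_eq_one_right (by rw [← mul_assoc, ← pow_three']; exact D.exp _ D.hx)).symm
  have hy2 : D.y * D.y = D.y⁻¹ :=
    (inv_eq_of_mul_eq_one_right (by rw [← mul_assoc, ← pow_three']; exact D.exp _ D.hy)).symm
  have hz1 : D.x * D.y ≠ 1 := fun e => D.hyx2 (eq_inv_of_mul_eq_one_right e)
  have hzx : D.x * D.y ≠ D.x := fun e => D.hy1 (mul_eq_left.mp e)
  have hzx2 : D.x * D.y ≠ D.x⁻¹ := fun e => D.hyx (by rw [← hx2] at e; exact mul_left_cancel e)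
  have hzy : D.x * D.y ≠ D.y := fun e => D.hx1 (mul_eq_right.mp e)
  have hzy2 : D.x * D.y ≠ D.y⁻¹ := fun e => D.hyx (by rw [← hy2] at e; exact (mul_right_cancel e).symm)
  obtain ⟨σ, p, q, T, s12⟩ := exists_shape (D.cols D.hx D.hy D.hx1 D.hy1 D.hyx D.hyx2 D.goodx D.goody)
  obtain ⟨σ₁₃, p₁₃, r, T₁₃, s13⟩ := exists_shape (D.cols D.hx hz D.hx1 hz1 hzx hzx2 D.goodx D.goodxy)
  obtain ⟨σ₂₃, p₂₃, q₂₃, T₂₃, s23⟩ := exists_shape (D.cols D.hy hz D.hy1 hz1 hzy hzy2 D.goody D.goodxy)
  have hone : ∀ {w : Y} (hw : w ∈ (D.W : Subgroup Y)), D.v hw (principal Y) = 1 := fun hw => (principal_vals _ _).1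
  obtain ⟨hp13, hσ13⟩ := s12.eq_p (hone D.hx) s13.sgn s13.xp
  have hp13' := hp13.symm
  subst hp13'; subst hσ13
  obtain ⟨hq23, hσ23⟩ := s23.eq_p (hone D.hy) s12.sgn s12.yq
  have hσ23' := hσ23.symm
  subst hq23; subst hσ23'
  have hσ := s12.sgn
  have hrq : r ≠ q := fun e => by have h1 := s13.yq; have h2 := s23.yp; rw [e] at h1; omega
  have hrT : r ∈ T := by
    by_contra hnot
    have hrp : r ≠ p := fun e => s13.pq e.symm
    have := (s12.rest r s13.q1 hrp hrq hnot).1
    have := s13.xq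
    omega
  obtain ⟨e1, e2, hne, hT⟩ := Finset.card_eq_two.mp
    (show (T.erase r).card = 2 by rw [Finset.card_erase_of_mem hrT, s12.card])
  have he1 : e1 ∈ T := Finset.mem_of_mem_erase (hT ▸ Finset.mem_insert_self e1 {e2})
  have he2 : e2 ∈ T := Finset.mem_of_mem_erase (hT ▸ Finset.mem_insert_of_mem (Finset.mem_singleton_self e2))
  have hTsum : ∀ {M : Type} [AddCommMonoid M] (f : IrrCharacter Y → M), ∑ t ∈ T, f t = f r + (f e1 + f e2) := by
    intro M _ f
    rw [← Finset.add_sum_erase T f hrT, hT, Finset.sum_pair hne]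
  have hrest : ∀ t, t ≠ principal Y → t ≠ p → t ≠ q → t ∉ T → D.v D.hx t = 0 := fun t a1 a2 a3 a4 =>
    (s12.rest t a1 a2 a3 a4).1
  have hd1 : deg r = deg p := s13.deg.symm
  have hdq : deg q = deg p := s12.deg.symm
  have hE : ∑ t, D.v D.hx t * deg t = 0 :=
    (D.cols D.hx D.hy D.hx1 D.hy1 D.hyx D.hyx2 D.goodx D.goody).xd
  rw [s12.sum_eq _ (fun t a1 a2 a3 a4 => by rw [hrest t a1 a2 a3 a4, zero_mul]), hTsum, hone D.hx,
    (principal_vals (D.exp _ D.hx) (D.real D.hx)).2, s12.xp, s12.xq, s13.xq, hd1, hdq] at hE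
  -- no products of two conjugates of `x` are conjugate to `y`
  have hk : Nat.card {t : Y × Y // IsConj D.x t.1 ∧ IsConj D.x t.2 ∧ t.1 * t.2 = D.y} = 0 := by
    rw [Nat.card_eq_zero]
    left
    exact ⟨fun ⟨⟨g, k⟩, hg, hk', e⟩ => D.no_pair hg hk' e⟩
  have hR : ∑ t : IrrCharacter Y, (D.v D.hx t : ℚ) * D.v D.hx t * D.v D.hy t / deg t = 0 := by
    have e := count_eq D.x D.y
    rw [hk, Nat.cast_zero, mul_zero] at e
    have hcl : (Nat.card {x : Y // IsConj D.x x} : ℂ) ≠ 0 := by
      haveI : Nonempty {x : Y // IsConj D.x x} := ⟨⟨D.x, IsConj.refl _⟩⟩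
      exact Nat.cast_ne_zero.mpr Nat.card_pos.ne'
    have e' := (mul_eq_zero.mp e.symm).resolve_left (pow_ne_zero 2 hcl)
    have : ((∑ t : IrrCharacter Y, (D.v D.hx t : ℚ) * D.v D.hx t * D.v D.hy t / deg t : ℚ) : ℂ) = 0 := by
      rw [← e', Rat.cast_sum]
      refine Finset.sum_congr rfl fun t _ => ?_
      rw [← (isClassFunction_iff_isConj.mp (isClassFunction_irr t.2) D.y D.y⁻¹ (D.real D.hy)),
        val_spec (D.exp _ D.hx) (D.real D.hx), val_spec (D.exp _ D.hy) (D.real D.hy), deg_spec]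
      push_cast
      rfl
    exact_mod_cast this
  have hyr : D.v D.hy r = -σ := by rw [← (s12.inT r hrT).1]; exact s13.xq
  rw [s12.sum_eq _ (fun t a1 a2 a3 a4 => by rw [hrest t a1 a2 a3 a4]; simp), hTsum, hone D.hx, hone D.hy,
    (principal_vals (D.exp _ D.hx) (D.real D.hx)).2, s12.xp, s12.yp, s12.xq, s12.yq, s13.xq, hyr, hd1, hdq,
    ← (s12.inT e1 he1).1, ← (s12.inT e2 he2).1] at hR
  have hc := (s12.inT e1 he1).2
  have hg := (s12.inT e2 he2).2
  obtain ⟨hσ1, hd2⟩ := numeric hσ hc hg (deg_pos p) (deg_pos e1) (deg_pos e2) (by linarith) (by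
    rcases hσ with rfl | rfl <;> rcases hc with hc | hc <;> rcases hg with hg | hg <;>
      rw [hc, hg] at hR ⊢ <;> push_cast at hR ⊢ <;> linear_combination hR)
  refine ⟨p, ?_, ?_⟩
  · rw [val_spec (D.exp _ D.hx) (D.real D.hx), deg_spec, hd2]
    have := s12.xp
    rw [hσ1] at this
    exact_mod_cast this
  · rw [val_spec (D.exp _ D.hy) (D.real D.hy), deg_spec, hd2]
    have := s12.yp
    intro e
    have e' : D.v D.hy p = 2 := by exact_mod_cast e
    omega

/-- The conclusion. -/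
theorem Data.normalizer_eq_top (hcore : ∀ K : Subgroup Y, K.Normal → (Nat.card K).Coprime 3 → K = ⊥) :
    Subgroup.normalizer ((D.W : Subgroup Y) : Set Y) = ⊤ := by
  classical
  haveI : Fact (Nat.Prime 3) := ⟨Nat.prime_three⟩
  obtain ⟨χ, hχx, hχy⟩ := D.exists_char
  set E := charKernel _ (isCharacter_of_irr χ.2) with hE
  haveI hEn : E.Normal := inferInstance
  have hxE : D.x ∈ E := (mem_charKernel _ _).mpr hχx
  have hyE : D.y ∉ E := fun h => hχy ((mem_charKernel _ _).mp h)
  have ho : orderOf D.x = 3 := orderOf_eq_prime (D.exp _ D.hx) D.hx1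
  -- nine does not divide the order of the kernel
  have h9 : ¬ 3 ^ 2 ∣ Nat.card E := by
    intro h
    obtain ⟨S, hS⟩ := Sylow.exists_subgroup_card_pow_prime 3 h
    have hS' : IsPGroup 3 (S.map E.subtype) := IsPGroup.of_card (n := 2) (by
      rw [Subgroup.card_map_of_injective E.subtype_injective, hS])
    obtain ⟨Q, hQ⟩ := hS'.exists_le_sylow
    obtain ⟨c, hc⟩ := MulAction.exists_smul_eq Y Q D.W
    have hQ9 : Nat.card (Q : Subgroup Y) = 9 := by rw [Q.card_eq_multiplicity, ← D.W.card_eq_multiplicity, D.card]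
    have hQE : (Q : Subgroup Y) ≤ E := by
      rw [← Subgroup.eq_of_le_of_card_ge hQ (by rw [hQ9, Subgroup.card_map_of_injective E.subtype_injective, hS]; norm_num)]
      exact Subgroup.map_subtype_le S
    refine hyE ?_
    have hyQ : D.y ∈ ((c • Q : Sylow 3 Y) : Subgroup Y) := by rw [hc]; exact D.hy
    rw [Sylow.coe_subgroup_smul, Subgroup.mem_pointwise_smul_iff_inv_smul_mem] at hyQ
    have := hEn.conj_mem _ (hQE hyQ) c
    simpa [mul_assoc] using this
  set X : Subgroup E := (Subgroup.zpowers D.x).subgroupOf E with hX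
  have hX3 : Nat.card X = 3 := by
    rw [hX, Nat.card_congr (Subgroup.subgroupOfEquivOfLe (Subgroup.zpowers_le.mpr hxE)).toEquiv, Nat.card_zpowers, ho]
  let S : Sylow 3 E := Sylow.ofCard X (by
    have h1 : (Nat.card E).factorization 3 = 1 := by
      have hd : 3 ∣ Nat.card E := hX3 ▸ X.card_subgroup_dvd_card
      have hlo : 1 ≤ (Nat.card E).factorization 3 :=
        (Nat.prime_three.pow_dvd_iff_le_factorization Nat.card_pos.ne').mp (by simpa using hd)
      by_contra hne
      exact h9 ((Nat.prime_three.pow_dvd_iff_le_factorization Nat.card_pos.ne').mpr (by omega))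
    rw [hX3, h1, pow_one])
  have hSX : (S : Subgroup E) = X := rfl
  haveI : IsMulCommutative (S : Subgroup E) := by
    rw [hSX]
    haveI := isCyclic_of_prime_card hX3
    exact ⟨⟨fun a b => (IsCyclic.commGroup (α := X)).mul_comm a b⟩⟩
  have hNC : Subgroup.normalizer ((S : Subgroup E) : Set E) ≤ Subgroup.centralizer ((S : Subgroup E) : Set E) := by
    intro n hn
    have hxS : (⟨D.x, hxE⟩ : E) ∈ (S : Subgroup E) := Subgroup.mem_zpowers D.x
    have hcx : (n : Y) * D.x * (n : Y)⁻¹ ∈ Subgroup.zpowers D.x := (Subgroup.mem_normalizer_iff.mp hn _).mp hxS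
    have hcases : (n : Y) * D.x * (n : Y)⁻¹ = D.x ∨ (n : Y) * D.x * (n : Y)⁻¹ = D.x⁻¹ := by
      obtain ⟨i, hi⟩ := Subgroup.mem_zpowers_iff.mp hcx
      have hne : (n : Y) * D.x * (n : Y)⁻¹ ≠ 1 := fun e => D.hx1 (conj_eq_one_iff.mp e)
      have h3 : D.x ^ (3 : ℤ) = 1 := by rw [zpow_ofNat]; exact D.exp _ D.hx
      rw [← hi] at hne ⊢
      rw [← Int.emod_add_mul_ediv i 3, zpow_add, zpow_mul, h3, one_zpow, mul_one] at hne ⊢
      have : i % 3 = 0 ∨ i % 3 = 1 ∨ i % 3 = 2 := by omega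
      rcases this with e | e | e <;> rw [e] at hne ⊢
      · exact absurd (zpow_zero _) hne
      · exact Or.inl (zpow_one _)
      · right
        rw [eq_inv_iff_mul_eq_one, ← zpow_add_one, show (2 : ℤ) + 1 = 3 by norm_num, h3]
    rcases hcases with hc | hc
    · rw [Subgroup.mem_centralizer_iff]
      intro a ha
      obtain ⟨i, hi⟩ := Subgroup.mem_zpowers_iff.mp (show (a : Y) ∈ Subgroup.zpowers D.x from ha)
      refine Subtype.ext ?_
      show (a : Y) * (n : Y) = (n : Y) * a
      rw [← hi]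
      exact ((show Commute (n : Y) D.x from mul_inv_eq_iff_eq_mul.mp hc).zpow_right i).eq.symm
    · exfalso
      have hnN : (n : Y) ∈ Subgroup.normalizer ((D.W : Subgroup Y) : Set Y) := by
        rw [Subgroup.mem_normalizer_iff]
        intro w
        constructor
        · intro hw
          refine D.goodx _ ?_
          have h1 : (n : Y) * (w * D.x⁻¹) * (n : Y)⁻¹ = (n : Y) * (D.x⁻¹ * w) * (n : Y)⁻¹ := by
            rw [D.ab w hw _ (inv_mem D.hx)]
          have h2 : (n : Y) * D.x⁻¹ * (n : Y)⁻¹ = D.x := by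
            rw [← conj_inv, hc, inv_inv]
          calc (n : Y) * w * (n : Y)⁻¹ * D.x = (n : Y) * w * (n : Y)⁻¹ * ((n : Y) * D.x⁻¹ * (n : Y)⁻¹) := by rw [h2]
            _ = (n : Y) * (w * D.x⁻¹) * (n : Y)⁻¹ := by group
            _ = ((n : Y) * D.x⁻¹ * (n : Y)⁻¹) * ((n : Y) * w * (n : Y)⁻¹) := by rw [h1]; group
            _ = D.x * ((n : Y) * w * (n : Y)⁻¹) := by rw [h2]
        · intro hw
          refine D.goodx _ ?_
          have h1 := D.ab _ hw _ (inv_mem D.hx)
          have h2 : (n : Y) * D.x * (n : Y)⁻¹ = D.x⁻¹ := hc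
          calc w * D.x = (n : Y)⁻¹ * (((n : Y) * w * (n : Y)⁻¹) * ((n : Y) * D.x * (n : Y)⁻¹)) * (n : Y) := by group
            _ = D.x * w := by rw [h2, h1, ← h2]; group
      rcases D.norm _ hnN with hm | hm
      · exact D.ne_inv D.hx D.hx1 (by rw [← hc, D.ab _ hm _ D.hx, mul_inv_cancel_right])
      · refine hyE ?_
        have h1 : D.y * (n : Y) * D.y⁻¹ * (n : Y)⁻¹ ∈ E := mul_mem (hEn.conj_mem _ n.2 _) (inv_mem n.2)
        rw [show D.y * (n : Y) * D.y⁻¹ * (n : Y)⁻¹ = D.y * ((n : Y) * D.y⁻¹ * (n : Y)⁻¹) by group,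
          hm _ (inv_mem D.hy), inv_inv] at h1
        have h3 := mul_mem h1 h1
        rwa [show D.y * D.y * (D.y * D.y) = (D.y ^ 3) * D.y by simp [pow_succ, mul_assoc], D.exp _ D.hy, one_mul] at h3
  set f := MonoidHom.transferSylow S hNC with hf
  have hco : (Nat.card f.ker).Coprime 3 :=
    ((Nat.prime_three.coprime_iff_not_dvd).mpr (MonoidHom.not_dvd_card_ker_transferSylow S hNC)).symm
  have hK : f.ker.map E.subtype = ⊥ := by
    refine hcore _ ⟨?_⟩ (by rwa [Subgroup.card_map_of_injective E.subtype_injective])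
    rintro _ ⟨a, ha, rfl⟩ g
    refine ⟨⟨g * a * g⁻¹, hEn.conj_mem _ a.2 g⟩, ?_, rfl⟩
    set b : E := ⟨g * a * g⁻¹, hEn.conj_mem _ a.2 g⟩
    have hord : (orderOf b).Coprime 3 := by
      have e : orderOf b = orderOf a := by
        rw [← Subgroup.orderOf_coe, ← Subgroup.orderOf_coe]
        exact MulEquiv.orderOf_eq (MulAut.conj g) (a : Y)
      rw [e]
      exact Nat.Coprime.coprime_dvd_left (Subgroup.orderOf_dvd_natCard f.ker ha) hco
    have h1 : orderOf (f b) ∣ orderOf b := orderOf_map_dvd f b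
    have h2 : orderOf (f b) ∣ 3 := by
      have := orderOf_dvd_natCard (f b)
      rwa [show Nat.card (S : Subgroup E) = 3 from hX3] at this
    have h3 := Nat.dvd_gcd h1 h2
    rw [hord.gcd_eq_one, Nat.dvd_one, orderOf_eq_one_iff] at h3
    exact h3
  have hEX : E = Subgroup.zpowers D.x := by
    refine le_antisymm (fun e he => ?_) (Subgroup.zpowers_le.mpr hxE)
    have htop := (MonoidHom.ker_transferSylow_isComplement' S hNC).sup_eq_top
    rw [(Subgroup.map_eq_bot_iff_of_injective _ E.subtype_injective).mp hK, bot_sup_eq] at htop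
    have : (⟨e, he⟩ : E) ∈ (S : Subgroup E) := htop ▸ Subgroup.mem_top _
    exact this
  refine eq_top_iff.mpr fun g _ => Subgroup.mem_normalizer_iff.mpr fun w => ?_
  have hpow : ∀ g : Y, ∀ w ∈ (D.W : Subgroup Y), g * w * g⁻¹ ∈ (D.W : Subgroup Y) := by
    intro g w hw
    refine D.goodx _ ?_
    have hgx : g⁻¹ * D.x * g ∈ (D.W : Subgroup Y) := by
      have := hEn.conj_mem _ hxE g⁻¹
      rw [inv_inv, hEX] at this
      exact (Subgroup.zpowers_le.mpr D.hx) this
    have h1 := D.ab w hw _ hgx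
    calc g * w * g⁻¹ * D.x = g * (w * (g⁻¹ * D.x * g)) * g⁻¹ := by group
      _ = D.x * (g * w * g⁻¹) := by rw [h1]; group
  refine ⟨hpow g w, fun h => ?_⟩
  have := hpow g⁻¹ _ h
  simpa [mul_assoc] using this

end CfsgLib.InvertedNine
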