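import Cfsg.Agent.Lib.NineCC.Local
import Mathlib

set_option autoImplicit false

/-!
A Sylow 3-subgroup of order nine whose normalizer acts on it by inversion only: fusion and the count of
products in the three classes.
-/

namespace CfsgLib.InvertedNine

universe u

/-- The setting: `W` is an elementary abelian Sylow 3-subgroup of order nine, self-centralizing and with
automizer generated by inversion, and three of its cyclic subgroups have `W` as centralizer. -/
structure Data (Y : Type u) [Group Y] where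
  W : Sylow 3 Y
  card : Nat.card (W : Subgroup Y) = 9
  ab : ∀ s ∈ (W : Subgroup Y), ∀ t ∈ (W : Subgroup Y), s * t = t * s
  exp : ∀ t ∈ (W : Subgroup Y), t ^ 3 = 1
  inv : ∃ j ∈ Subgroup.normalizer ((W : Subgroup Y) : Set Y), ∀ w ∈ (W : Subgroup Y), j * w * j⁻¹ = w⁻¹
  norm : ∀ n ∈ Subgroup.normalizer ((W : Subgroup Y) : Set Y),
    n ∈ (W : Subgroup Y) ∨ ∀ w ∈ (W : Subgroup Y), n * w * n⁻¹ = w⁻¹
  x : Y
  y : Y
  hx : x ∈ (W : Subgroup Y)
  hy : y ∈ (W : Subgroup Y)
  hx1 : x ≠ 1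
  hy1 : y ≠ 1
  hyx : y ≠ x
  hyx2 : y ≠ x⁻¹
  goodx : ∀ g : Y, g * x = x * g → g ∈ (W : Subgroup Y)
  goody : ∀ g : Y, g * y = y * g → g ∈ (W : Subgroup Y)
  goodxy : ∀ g : Y, g * (x * y) = x * y * g → g ∈ (W : Subgroup Y)

variable {Y : Type u} [Group Y] [Finite Y] (D : Data Y)

theorem Data.self {t : Y} (ht : t ∈ (D.W : Subgroup Y)) :
    t ∈ Subgroup.centralizer ((D.W : Subgroup Y) : Set Y) :=
  Subgroup.mem_centralizer_iff.mpr fun s hs => D.ab s hs t ht

/-- Conjugate elements of `W` are equal or inverse. -/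
theorem Data.fusion {s t : Y} (hs : s ∈ (D.W : Subgroup Y)) (ht : t ∈ (D.W : Subgroup Y)) (h : IsConj s t) :
    t = s ∨ t = s⁻¹ := by
  haveI : Fact (Nat.Prime 3) := ⟨Nat.prime_three⟩
  obtain ⟨c, hc⟩ := isConj_iff.mp h
  obtain ⟨n, hn, e⟩ := D.W.conj_eq_normalizer_conj_of_mem_centralizer s c⁻¹ (D.self hs)
    (by rw [inv_inv, hc]; exact D.self ht)
  rw [inv_inv, hc] at e
  rcases D.norm n⁻¹ (inv_mem hn) with hm | hm
  · left
    have := D.ab _ hm s hs
    rw [e, this, mul_assoc, inv_mul_cancel, mul_one]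
  · right
    have := hm s hs
    rw [inv_inv] at this
    rw [e, this]

theorem Data.ne_inv {w : Y} (hw : w ∈ (D.W : Subgroup Y)) (h1 : w ≠ 1) : w⁻¹ ≠ w := fun e => h1 (by
  have h2 : w * w = 1 := by nth_rw 1 [← e]; exact inv_mul_cancel w
  have h3 := D.exp w hw
  rwa [pow_succ, pow_two, h2, one_mul] at h3)

theorem Data.real {w : Y} (hw : w ∈ (D.W : Subgroup Y)) : IsConj w w⁻¹ := by
  obtain ⟨j, -, hj⟩ := D.inv
  exact isConj_iff.mpr ⟨j, hj w hw⟩

/-- The centralizer of a nontrivial element of `W` maps onto `W` identically on `W`. -/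
theorem Data.exists_retraction {z : Y} (hz : z ∈ (D.W : Subgroup Y)) (hz1 : z ≠ 1) :
    ∃ f : Subgroup.centralizer ({z} : Set Y) → Y, (∀ a b, f (a * b) = f a * f b) ∧
      ∀ a, f a ∈ (D.W : Subgroup Y) ∧ IsConj (a : Y) (f a) ∨ (a : Y) ^ 3 ≠ 1 := by
  classical
  haveI : Fact (Nat.Prime 3) := ⟨Nat.prime_three⟩
  set C := Subgroup.centralizer ({z} : Set Y) with hC
  have hWC : (D.W : Subgroup Y) ≤ C := fun w hw =>
    Subgroup.mem_centralizer_singleton_iff.mpr (D.ab w hw z hz)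
  set P : Sylow 3 C := D.W.subtype hWC with hP
  have hPm : ∀ a : C, a ∈ (P : Subgroup C) ↔ (a : Y) ∈ (D.W : Subgroup Y) := fun a => Iff.rfl
  have hNC : Subgroup.normalizer ((P : Subgroup C) : Set C) ≤ Subgroup.centralizer ((P : Subgroup C) : Set C) := by
    intro n hn
    have hnN : (n : Y) ∈ Subgroup.normalizer ((D.W : Subgroup Y) : Set Y) := by
      rw [Subgroup.mem_normalizer_iff]
      intro w
      constructor
      · intro hw
        exact (Subgroup.mem_normalizer_iff.mp hn ⟨w, hWC hw⟩).mp hw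
      · intro hw
        have hwC : w ∈ C := by
          have h := mul_mem (mul_mem (inv_mem n.2) (hWC hw)) n.2
          simpa [mul_assoc] using h
        exact (Subgroup.mem_normalizer_iff.mp hn ⟨w, hwC⟩).mpr hw
    rcases D.norm _ hnN with hm | hm
    · rw [Subgroup.mem_centralizer_iff]
      exact fun a ha => Subtype.ext (D.ab _ ha _ hm)
    · exfalso
      refine D.ne_inv hz hz1 ?_
      rw [← hm z hz, Subgroup.mem_centralizer_singleton_iff.mp n.2, mul_inv_cancel_right]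
  have hbij : Function.Bijective fun q : (P : Subgroup C) => q ^ (P : Subgroup C).index :=
    (P.2.powEquiv' P.not_dvd_index).bijective
  let ψ : C →* (P : Subgroup C) := MonoidHom.transferSylow P hNC
  haveI : IsMulCommutative (P : Subgroup C) := ⟨⟨fun a b => Subtype.ext (Subtype.ext (D.ab _ a.2 _ b.2))⟩⟩
  let r : C → (P : Subgroup C) := fun a => (Equiv.ofBijective _ hbij).symm (ψ a)
  have hr : ∀ a b, r (a * b) = r a * r b := fun a b => by
    refine (Equiv.ofBijective _ hbij).symm_apply_eq.mpr ?_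
    show _ = (r a * r b) ^ _
    rw [map_mul, Commute.mul_pow (mul_comm' (r a) (r b))]
    exact congrArg₂ (· * ·) ((Equiv.ofBijective _ hbij).apply_symm_apply _).symm
      ((Equiv.ofBijective _ hbij).apply_symm_apply _).symm
  refine ⟨fun a => ((r a : C) : Y), fun a b => by simp [hr], fun a => ?_⟩
  by_cases ha : (a : Y) ^ 3 = 1
  swap
  · exact Or.inr ha
  refine Or.inl ⟨(r a).2, ?_⟩
  have hA : IsPGroup 3 (Subgroup.zpowers a) := by
    rintro ⟨q, m, rfl⟩
    refine ⟨1, Subtype.ext (Subtype.ext ?_)⟩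
    show ((a : Y) ^ m) ^ 3 ^ 1 = 1
    rw [pow_one, ← zpow_natCast, ← zpow_mul, mul_comm, zpow_mul, zpow_natCast, ha, one_zpow]
  obtain ⟨Q, hQ⟩ := hA.exists_le_sylow
  obtain ⟨c, hc⟩ := MulAction.exists_smul_eq C P Q
  have haQ : a ∈ ((c • P : Sylow 3 C) : Subgroup C) := by rw [hc]; exact hQ (Subgroup.mem_zpowers a)
  rw [Sylow.coe_subgroup_smul, Subgroup.mem_pointwise_smul_iff_inv_smul_mem] at haQ
  have ha' : c⁻¹ * a * c ∈ (P : Subgroup C) := by simpa [mul_assoc] using haQ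
  have hψ : ψ a = (⟨_, ha'⟩ : (P : Subgroup C)) ^ (P : Subgroup C).index := by
    have e2 : ψ (c⁻¹ * a * c) = (⟨_, ha'⟩ : (P : Subgroup C)) ^ (P : Subgroup C).index :=
      congrFun (MonoidHom.transferSylow_domRestrict_eq_pow P hNC) ⟨_, ha'⟩
    rw [← e2, map_mul, map_mul, map_inv, mul_comm' (ψ c)⁻¹, mul_assoc, inv_mul_cancel, mul_one]
  have hra : r a = ⟨_, ha'⟩ := (Equiv.ofBijective _ hbij).symm_apply_eq.mpr hψ
  show IsConj (a : Y) ((r a : C) : Y)
  rw [hra]
  exact isConj_iff.mpr ⟨((c : Y))⁻¹, by simp⟩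

/-- No product of two conjugates of `x` is conjugate to `y`. -/
theorem Data.no_pair {p q : Y} (hp : IsConj D.x p) (hq : IsConj D.x q) (e : p * q = D.y) : False := by
  have ho : ∀ z, IsConj D.x z → z ^ 3 = 1 := fun z hz => by
    obtain ⟨c, rfl⟩ := isConj_iff.mp hz
    rw [conj_pow, D.exp _ D.hx, mul_one, mul_inv_cancel]
  rcases CfsgLib.NineCC.conj_or_common (ho p hp) (ho q hq) (by rw [e]; exact D.exp _ D.hy) with ⟨-, h2⟩ | ⟨z, hz1, hzp, hzq⟩
  · obtain ⟨c, hc⟩ := isConj_iff.mp hp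
    have hi : IsConj D.x⁻¹ (p * p) := isConj_iff.mpr ⟨c, by
      rw [show c * D.x⁻¹ * c⁻¹ = (c * D.x * c⁻¹)⁻¹ by group, hc]
      exact inv_eq_of_mul_eq_one_right (by rw [← mul_assoc, ← pow_three']; exact ho p hp)⟩
    rcases D.fusion D.hx D.hy ((D.real D.hx).trans (hi.trans (e ▸ h2))) with h | h
    · exact D.hyx h
    · exact D.hyx2 h
  have hzy : z * D.y = D.y * z := by
    rw [← e, ← mul_assoc, hzp, mul_assoc, hzq, mul_assoc]
  have hzW := D.goody z hzy
  obtain ⟨f, hf, hfa⟩ := D.exists_retraction hzW hz1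
  have hy' : D.y ∈ Subgroup.centralizer ({z} : Set Y) := Subgroup.mem_centralizer_singleton_iff.mpr hzy.symm
  have hp' : p ∈ Subgroup.centralizer ({z} : Set Y) := Subgroup.mem_centralizer_singleton_iff.mpr hzp.symm
  have hq' : q ∈ Subgroup.centralizer ({z} : Set Y) := Subgroup.mem_centralizer_singleton_iff.mpr hzq.symm
  obtain ⟨pW, pc⟩ := (hfa ⟨p, hp'⟩).resolve_right (not_not_intro (ho p hp))
  obtain ⟨qW, qc⟩ := (hfa ⟨q, hq'⟩).resolve_right (not_not_intro (ho q hq))
  obtain ⟨yW, yc⟩ := (hfa ⟨D.y, hy'⟩).resolve_right (not_not_intro (D.exp _ D.hy))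
  have key : f ⟨p, hp'⟩ * f ⟨q, hq'⟩ = f ⟨D.y, hy'⟩ := by
    rw [← hf]
    exact congrArg f (Subtype.ext e)
  have hx3 : D.x * D.x = D.x⁻¹ :=
    (inv_eq_of_mul_eq_one_right (by rw [← mul_assoc, ← pow_three']; exact D.exp _ D.hx)).symm
  rcases D.fusion D.hy yW yc with ey | ey <;> rw [ey] at key <;>
    rcases D.fusion D.hx pW (hp.trans pc) with ep | ep <;> rw [ep] at key <;>
    rcases D.fusion D.hx qW (hq.trans qc) with eq | eq <;> rw [eq] at key <;>
    simp only [hx3, mul_inv_cancel, inv_mul_cancel, ← mul_inv_rev, inv_inv] at key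
  all_goals
    first
    | exact D.hy1 key.symm
    | exact D.hy1 (inv_eq_one.mp key.symm)
    | exact D.hyx key.symm
    | exact D.hyx2 key.symm
    | exact D.hyx (inv_injective key).symm
    | exact D.hyx2 (eq_inv_of_eq_inv key)
    | exact D.hyx2 (by rw [key, inv_inv])

end CfsgLib.InvertedNine
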